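import Cfsg.Agent.A8GL4.Basic

/-! Transvections of the symplectic group over `F₂` in dimension four. -/

set_option autoImplicit false

namespace CfsgLib.RankFourTwo

open Matrix CfsgLib.A8GL4

abbrev V4 := Fin 4 → ZMod 2

/-- a matrix coded by its sixteen bits -/
def decode (n : ℕ) : M4 := Matrix.of fun i j => if n.testBit (4 * i.val + j.val) then 1 else 0

/-- codes of congruences from the standard form to the frame sums -/
def cong : List ℕ :=
  [33825, 4740, 4684, 40488, 5676, 7208, 37932, 37576, 4740, 33825, 4808, 38444, 7720, 5164, 39976, 37452, 4684, 4808, 33825, 6188, 37928, 39468, 5672, 37508, 40488, 38444, 6188, 33825, 37572, 37448, 37516, 5160, 5676, 7720, 37928, 37572, 33825, 4748, 4680, 38956, 7208, 5164, 39468, 37448, 4748, 33825, 4804, 38440, 37932, 39976, 5672, 37516, 4680, 4804, 33825, 6700, 37576, 37452, 37508, 5160, 38956, 38440, 6700, 33825]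

/-- codes of the inverse congruences -/
def congInv : List ℕ :=
  [33825, 8520, 12872, 5929, 30248, 5416, 21549, 4937, 8520, 33825, 4936, 30255, 5928, 21544, 5417, 12875, 12872, 4936, 33825, 17704, 5161, 26414, 5672, 8522, 5929, 30255, 17704, 33825, 12619, 4681, 9034, 5160, 30248, 5928, 5161, 12619, 33825, 9032, 4680, 17708, 5416, 21544, 26414, 4681, 9032, 33825, 12616, 5673, 21549, 5417, 5672, 9034, 4680, 12616, 33825, 26408, 4937, 12875, 8522, 5160, 17708, 5673, 26408, 33825]

/-- the standard alternating form -/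
def U₀ : M4 := altMat 0 1 0 0 1 0

/-- congruence carrying the standard form to `u a + u b` -/
def P (a b : Fin 8) : M4 := decode (cong.getD (8 * a.val + b.val) 0)

/-- its inverse -/
def Pinv (a b : Fin 8) : M4 := decode (congInv.getD (8 * a.val + b.val) 0)

set_option maxRecDepth 100000 in
set_option maxHeartbeats 4000000 in
theorem P_spec : ∀ a b : Fin 8, P a b * Pinv a b = 1 ∧ Pinv a b * P a b = 1 ∧
    (a ≠ b → P a b * U₀ * (P a b)ᵀ = u a + u b) := by decide +kernel

/-- the transvection of the standard form along `w` -/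
def tv (w : V4) : M4 := 1 + vecMulVec w (U₀ *ᵥ w)

/-- the three centres -/
def ctr : Fin 3 → V4 := ![![1, 0, 0, 0], ![0, 1, 0, 0], ![1, 1, 0, 0]]

/-- three commuting transvections -/
def tT (i : Fin 3) : M4 := tv (ctr i)

/-- elements commuting with them -/
def tG : Fin 3 → M4 :=
  ![tv ![0, 1, 0, 0] * tv ![0, 0, 0, 1], tv ![1, 0, 0, 0] * tv ![0, 0, 1, 0], tv ![1, 0, 0, 0] * tv ![0, 0, 1, 1]]

/-- the common fixed plane -/
def InL (x : V4) : Prop := x 2 = 0 ∧ x 3 = 0

instance : DecidablePred InL := fun x => inferInstanceAs (Decidable (x 2 = 0 ∧ x 3 = 0))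

/-- the product of the transvections selected by `b` -/
def tProd (b : Fin 2 × Fin 2 × Fin 2) : M4 := tT 0 ^ b.1.val * tT 1 ^ b.2.1.val * tT 2 ^ b.2.2.val

set_option maxRecDepth 100000 in
set_option maxHeartbeats 4000000 in
theorem isometries : ∀ i, tT i * U₀ * (tT i)ᵀ = U₀ ∧ tG i * U₀ * (tG i)ᵀ = U₀ ∧ tT i * tT i = 1 ∧
    tG i * tT i = tT i * tG i ∧ (∀ j, tT i * tT j = tT j * tT i) := by decide +kernel

set_option maxRecDepth 100000 in
set_option maxHeartbeats 4000000 in
theorem moves : ∀ i, ∀ x : V4, (∀ j, InL x → tT j *ᵥ x = x) ∧ InL (tT i *ᵥ x + x) ∧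
    (tT i *ᵥ x = x → (∃ y : V4, tG i *ᵥ x + x = tT i *ᵥ y + y) → InL x) ∧
    (∀ j, i ≠ j → tT i *ᵥ x = x → tT j *ᵥ x = x → InL x) := by decide +kernel

set_option maxRecDepth 100000 in
set_option maxHeartbeats 4000000 in
theorem tProd_injective : ∀ a b, tProd a = tProd b → a = b := by decide +kernel

theorem InL.add {x y : V4} (hx : InL x) (hy : InL y) : InL (x + y) :=
  ⟨by simp [hx.1, hy.1], by simp [hx.2, hy.2]⟩

theorem card_InL : Nat.card {x : V4 // InL x} = 4 := by
  rw [Nat.card_eq_fintype_card]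
  decide

end CfsgLib.RankFourTwo
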